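/-
Induction from a normal subgroup with abelian quotient in the inertia group.

* `classInner_inertia_restrict` : hypotheses on `indFun` to the inertia group as restriction inner products
* `invariant_decomp` : `θ` invariant, `G ⧸ N` abelian: `θ^G = e ∑ χ`, all `χ|N = e θ`, `e² |C| = |G : N|`
* `inertia_decomp` : the same through the inertia group
-/
import Cfsg.Agent.Lib.CharApp.CoprimeFixed

set_option autoImplicit false

namespace Cfsg.Agent.Clifford

open Cfsg Cfsg.Agent.Char Cfsg.Agent.CharApp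
open scoped ComplexConjugate

variable {G : Type*} [Group G] [Fintype G]

theorem invariant_decomp (N : Subgroup G) [N.Normal] [Fintype N]
    (hab : ∀ x y : G, x * y * x⁻¹ * y⁻¹ ∈ N) {θ : N → ℂ} (hθ : IsIrrCharacter N θ)
    (hinv : ∀ x : G, CliffordChar.conjFun N x θ = θ) :
    ∃ (e : ℕ) (C : Finset (G → ℂ)), 0 < e ∧ (∀ χ ∈ C, IsIrrCharacter G χ) ∧
      e ^ 2 * C.card = N.index ∧ indFun N θ = (e : ℂ) • ∑ χ ∈ C, χ ∧
      (∀ χ ∈ C, (fun n : N => χ n) = (e : ℂ) • θ) ∧
      ∀ χ, χ ∈ C ↔ IsIrrCharacter G χ ∧ classInner (fun n : N => χ n) θ ≠ 0 := by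
  classical
  haveI := Fintype.ofFinite (IrrCharacter G)
  obtain ⟨χ₀, hχ₀, h0⟩ := exists_over N hθ
  obtain ⟨e, he⟩ := IsCharacter.classInner_nat
    (IsCharacter.restrict (IsIrrCharacter.isCharacter hχ₀) N) (IsIrrCharacter.isCharacter hθ)
  have he0 : e ≠ 0 := fun h => h0 (by rw [he, h, Nat.cast_zero])
  have hres : ∀ φ : G → ℂ, IsIrrCharacter G φ → classInner (fun n : N => φ n) θ ≠ 0 →
      (fun n : N => φ n) = (e : ℂ) • θ := by
    intro φ hφ h
    obtain ⟨l, hl, rfl⟩ := exists_linear_twist_of_abelian_quotient N hab hθ hχ₀ hφ h0 h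
    have h1 := restrict_invariant N hχ₀ hθ h0 hinv
    rw [he] at h1
    rw [← h1]
    funext n
    simp [hl n]
  set C := (Finset.univ.filter fun φ : IrrCharacter G =>
    classInner (fun n : N => (φ : G → ℂ) n) θ ≠ 0).image Subtype.val with hC
  have hmem : ∀ χ, χ ∈ C ↔ IsIrrCharacter G χ ∧ classInner (fun n : N => χ n) θ ≠ 0 := by
    intro χ
    simp only [hC, Finset.mem_image, Finset.mem_filter, Finset.mem_univ, true_and]
    exact ⟨fun ⟨φ, h, e⟩ => e ▸ ⟨φ.2, h⟩, fun h => ⟨⟨χ, h.1⟩, h.2, rfl⟩⟩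
  have hind : indFun N θ = (e : ℂ) • ∑ χ ∈ C, χ := by
    rw [hC, Finset.sum_image fun a _ b _ h => Subtype.ext h, Finset.smul_sum, Finset.sum_filter]
    refine (classFunction_eq_sum (indFun_isClassFunction N θ)).trans
      (Finset.sum_congr rfl fun φ _ => ?_)
    rw [frobenius_reciprocity N θ (IsIrrCharacter.isClassFunction φ.2), ← classInner_conj_symm]
    split_ifs with h
    · rw [hres φ φ.2 h, classInner_smul_left, classInner_irr_self hθ, mul_one, Complex.conj_natCast]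
    · push Not at h
      rw [h, map_zero, zero_smul]
  refine ⟨e, C, Nat.pos_of_ne_zero he0, fun χ h => ((hmem χ).mp h).1, ?_, hind,
    fun χ h => hres χ ((hmem χ).mp h).1 ((hmem χ).mp h).2, hmem⟩
  have h1 := congrFun hind 1
  rw [indFun_one_apply, Pi.smul_apply, Finset.sum_apply, Finset.sum_congr rfl (g := fun _ => (e : ℂ) * θ 1)
    (fun χ h => by simpa using congrFun (hres χ ((hmem χ).mp h).1 ((hmem χ).mp h).2) 1),
    Finset.sum_const, nsmul_eq_mul, smul_eq_mul] at h1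
  have h2 : ((e ^ 2 * C.card : ℕ) : ℂ) = (N.index : ℂ) := by
    apply mul_right_cancel₀ (IsIrrCharacter.apply_one_ne_zero hθ)
    rw [h1]; push_cast; ring
  exact_mod_cast h2

variable (N : Subgroup G) [hN : N.Normal] [Fintype N]

omit [Fintype N] in
theorem eq_inertia {θ : N → ℂ} {T : Subgroup G}
    (hT : ∀ g : G, g ∈ T ↔ ∀ h : N, θ ⟨g * h * g⁻¹, hN.conj_mem h h.2 g⟩ = θ h) :
    T = inertia N θ := by
  ext g
  rw [hT, mem_inertia_iff]

/-- Decomposition of `θ^G` through the inertia group with abelian quotient. -/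
theorem inertia_decomp {θ : N → ℂ} (hθ : IsIrrCharacter N θ)
    (hab : ∀ x ∈ inertia N θ, ∀ y ∈ inertia N θ, x * y * x⁻¹ * y⁻¹ ∈ N) :
    ∃ (e : ℕ) (C : Finset (G → ℂ)), 0 < e ∧ (∀ χ ∈ C, IsIrrCharacter G χ) ∧
      e ^ 2 * C.card = N.relIndex (inertia N θ) ∧ indFun N θ = (e : ℂ) • ∑ χ ∈ C, χ ∧
      (∀ χ ∈ C, χ 1 = ((inertia N θ).index : ℂ) * e * θ 1) ∧
      ((∃ η : inertia N θ → ℂ, IsIrrCharacter (inertia N θ) η ∧ ∀ n : N,
        η ⟨(n : G), le_inertia N (IsIrrCharacter.isClassFunction hθ) n.2⟩ = θ n) → e = 1) := by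
  classical
  set T := inertia N θ with hTdef
  haveI := Fintype.ofFinite T
  haveI := Fintype.ofFinite (N.subgroupOf T)
  have hNT : N ≤ T := le_inertia N (IsIrrCharacter.isClassFunction hθ)
  let ι : N.subgroupOf T ≃* N := Subgroup.subgroupOfEquivOfLe hNT
  have hθ' : IsIrrCharacter (N.subgroupOf T) (fun x => θ (ι x)) := IsIrrCharacter.comp_equiv hθ ι
  have hinv : ∀ t : T, CliffordChar.conjFun (N.subgroupOf T) t (fun x => θ (ι x)) = fun x => θ (ι x) := by
    intro t
    funext x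
    have hx := congrFun (mem_inertia N |>.mp t.2) (ι x)
    rw [CliffordChar.conjFun_apply] at hx ⊢
    exact hx
  obtain ⟨e, C, he, hC, hcard, hind, hres, hmem⟩ := invariant_decomp (N.subgroupOf T)
    (fun x y => Subgroup.mem_subgroupOf.mpr (hab x x.2 y y.2)) hθ' hinv
  have hover : ∀ ψ ∈ C, classInner (fun n : N => ψ ⟨(n : G), hNT n.2⟩) θ ≠ 0 := by
    intro ψ hψ
    rw [← classInner_comp_equiv ι]
    exact ((hmem ψ).mp hψ).2
  have hinj : Set.InjOn (indFun T) (C : Set (T → ℂ)) := fun ψ hψ ψ' hψ' h =>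
    ((clifford_correspondence N hθ (hC ψ' hψ') (hover ψ' hψ')).2.2 ψ (hC ψ hψ) (hover ψ hψ) h)
  refine ⟨e, C.image (indFun T), he, ?_, ?_, ?_, ?_, ?_⟩
  · intro χ hχ
    obtain ⟨ψ, hψ, rfl⟩ := Finset.mem_image.mp hχ
    exact (clifford_correspondence N hθ (hC ψ hψ) (hover ψ hψ)).1
  · rw [Finset.card_image_of_injOn hinj]; exact hcard
  · rw [← indFun_trans N T hNT θ]
    show indFun T (indFun (N.subgroupOf T) fun x => θ (ι x)) = _
    rw [hind, indFun_smul, indFun_sum, Finset.sum_image hinj]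
  · intro χ hχ
    obtain ⟨ψ, hψ, rfl⟩ := Finset.mem_image.mp hχ
    have h1 := congrFun (hres ψ hψ) 1
    simp only [OneMemClass.coe_one, Pi.smul_apply, smul_eq_mul, map_one] at h1
    rw [indFun_one_apply, h1, mul_assoc]
  · rintro ⟨η, hη, hηN⟩
    have hη' : (fun x : N.subgroupOf T => η x) = fun x => θ (ι x) := funext fun x => hηN (ι x)
    have hηC : η ∈ C := (hmem η).mpr ⟨hη, by rw [hη', classInner_irr_self hθ']; exact one_ne_zero⟩
    have h1 := congrFun (hres η hηC) 1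
    rw [congrFun hη' 1] at h1
    simp only [map_one, Pi.smul_apply, smul_eq_mul] at h1
    have : (1 : ℂ) = (e : ℂ) := by
      apply mul_right_cancel₀ (IsIrrCharacter.apply_one_ne_zero hθ)
      rw [one_mul]; exact h1
    exact_mod_cast this.symm

end Cfsg.Agent.Clifford
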